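import Groth.Agent.CharRingLib.Corep
import Groth.Agent.S3032
import Groth.Prelude.Def_HopfRep
import Mathlib

/-! Chevalley's theorem in matrix form, over a principal ideal domain. -/

set_option linter.unusedSectionVars false

universe u

open TensorProduct

namespace ChevColLib

variable {R : Type u} [CommRing R] {A : Type u} [CommRing A] [HopfAlgebra R A]

/-- A multiplicative matrix. -/
def IsMC (R : Type u) [CommRing R] {A : Type u} [CommRing A] [HopfAlgebra R A] {I : Type} [Fintype I]
    [DecidableEq I] (a : Matrix I I A) : Prop :=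
  (∀ i j, CoalgebraStruct.comul (R := R) (a i j) = ∑ l, a i l ⊗ₜ[R] a l j) ∧
    ∀ i j, CoalgebraStruct.counit (R := R) (a i j) = if i = j then 1 else 0

variable {I J : Type} [Fintype I] [DecidableEq I] [Fintype J] [DecidableEq J]

theorem IsMC.reindex {a : Matrix I I A} (h : IsMC R a) (e : I ≃ J) : IsMC R (Matrix.reindex e e a) :=
  ⟨fun i j => by
    simp only [Matrix.reindex_apply, Matrix.submatrix_apply, h.1]
    exact (e.symm.sum_comp fun l => a (e.symm i) l ⊗ₜ[R] a l (e.symm j)).symm,
    fun i j => by simp [Matrix.reindex_apply, h.2]⟩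

theorem IsMC.blocks {a : Matrix I I A} {b : Matrix J J A} (ha : IsMC R a) (hb : IsMC R b) :
    IsMC R (Matrix.fromBlocks a 0 0 b) := by
  constructor
  · rintro (i | i) (j | j) <;> simp [Fintype.sum_sum_type, ha.1, hb.1]
  · rintro (i | i) (j | j) <;> simp [ha.2, hb.2]

theorem IsMC.map_comul {a : Matrix I I A} (h : IsMC R a) :
    a.map (Bialgebra.comulAlgHom R A) =
      a.map (Algebra.TensorProduct.includeLeft : A →ₐ[R] A ⊗[R] A) *
        a.map (Algebra.TensorProduct.includeRight : A →ₐ[R] A ⊗[R] A) := by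
  ext i j; simp [Matrix.mul_apply, h.1]

theorem IsMC.compound {N : ℕ} {a : Matrix (Fin N) (Fin N) A} (h : IsMC R a) (n : ℕ) :
    IsMC R (CharRingLib.compound n a) := by
  constructor
  · intro i j
    have e : (CharRingLib.compound n a).map (Bialgebra.comulAlgHom R A).toRingHom =
        (CharRingLib.compound n a).map (Algebra.TensorProduct.includeLeft : A →ₐ[R] A ⊗[R] A).toRingHom *
          (CharRingLib.compound n a).map (Algebra.TensorProduct.includeRight : A →ₐ[R] A ⊗[R] A).toRingHom := by
      rw [CharRingLib.compound_map, CharRingLib.compound_map, CharRingLib.compound_map, ← CharRingLib.compound_mul]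
      exact congrArg _ h.map_comul
    have := congrFun (congrFun e i) j
    simpa [Matrix.mul_apply] using this
  · intro i j
    have e : (CharRingLib.compound n a).map (Bialgebra.counitAlgHom R A).toRingHom = 1 := by
      rw [CharRingLib.compound_map, ← CharRingLib.compound_one]
      refine congrArg _ ?_
      ext i j; simp [Matrix.one_apply, h.2]
    have := congrFun (congrFun e i) j
    simpa [Matrix.one_apply] using this

/-- The antipode inverts a multiplicative matrix. -/
theorem IsMC.antipode_mul {a : Matrix I I A} (h : IsMC R a) : a.map (HopfAlgebra.antipode R) * a = 1 := by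
  ext i j
  have := HopfAlgebra.mul_antipode_rTensor_comul_apply (R := R) (a i j)
  rw [h.1, h.2, map_sum, map_sum] at this
  simp only [LinearMap.rTensor_tmul, LinearMap.mul'_apply] at this
  rw [Matrix.mul_apply, Matrix.one_apply]
  simp only [Matrix.map_apply, this]
  split_ifs <;> simp

/-- Coefficients in front of independent elements are unique. -/
theorem coeff_ext {N : Type u} [AddCommGroup N] [Module R N] (W : Submodule R N) {M : Type u} [AddCommGroup M]
    [Module R M] [Module.Flat R M] {ι : Type} [Fintype ι] [DecidableEq ι] (b : Module.Basis ι R W) (x y : ι → M)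
    (h : ∑ i, (b i : N) ⊗ₜ[R] x i = ∑ i, (b i : N) ⊗ₜ[R] y i) : x = y := by
  have h1 : ∑ i, b i ⊗ₜ[R] x i = ∑ i, b i ⊗ₜ[R] y i :=
    Module.Flat.rTensor_preserves_injective_linearMap (M := M) W.subtype Subtype.val_injective
      (by simpa [map_sum] using h)
  have h2 : ∀ z : ι → M, ∑ i, b i ⊗ₜ[R] z i =
      (TensorProduct.equivFinsuppOfBasisLeft b).symm (Finsupp.equivFunOnFinite.symm z) := fun z => by
    rw [TensorProduct.equivFinsuppOfBasisLeft_symm_apply, Finsupp.sum_fintype _ _ (by simp)]
    rfl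
  rw [h2, h2] at h1
  exact Finsupp.equivFunOnFinite.symm.injective ((TensorProduct.equivFinsuppOfBasisLeft b).symm.injective h1)

/-- The coaction of the algebra on itself. -/
@[reducible] noncomputable def selfComod : HopfRep.Comod R A A where
  coact := CoalgebraStruct.comul
  coassoc := Coalgebra.coassoc
  counit_comp := Coalgebra.lTensor_counit_comp_comul

variable [IsDomain R] [IsPrincipalIdealRing R]

/-- A multiplicative matrix whose lower left block generates the ideal of the subgroup. -/
theorem exists_block [Module.Flat R A] [Algebra.FiniteType R A] {B : Type u} [CommRing B] [HopfAlgebra R B]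
    [Module.Flat R B] (π : A →ₐc[R] B) :
    ∃ (r e : ℕ) (t : Matrix (Fin r ⊕ Fin e) (Fin r ⊕ Fin e) A), IsMC R t ∧
      RingHom.ker π = Ideal.span (Set.range fun p : Fin e × Fin r => t (Sum.inr p.1) (Sum.inl p.2)) ∧
      Algebra.adjoin R (Set.range fun p : (Fin r ⊕ Fin e) × (Fin r ⊕ Fin e) => t p.1 p.2) = ⊤ := by
  classical
  haveI : IsNoetherianRing A := Algebra.FiniteType.isNoetherianRing R A
  obtain ⟨G, hG⟩ := (IsNoetherian.noetherian (RingHom.ker π) : (RingHom.ker π).FG)
  obtain ⟨T, hT⟩ := (Algebra.FiniteType.out : (⊤ : Subalgebra R A).FG)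
  letI := selfComod (R := R) (A := A)
  obtain ⟨W, hWsub, hFW, hWfg⟩ := Groth.Agent.S3032.result R A A (Submodule.span R ((G ∪ T : Finset A) : Set A))
    ⟨G ∪ T, rfl⟩
  have hsub : ∀ w ∈ W, CoalgebraStruct.comul (R := R) w ∈ LinearMap.range (LinearMap.rTensor A W.subtype) := hWsub
  haveI : Module.Finite R W := Module.Finite.iff_fg.2 hWfg
  haveI : Module.IsTorsionFree R A := Module.Flat.isTorsionFree
  haveI : Module.IsTorsionFree R B := Module.Flat.isTorsionFree
  let π₀ : A →ₐ[R] B := (π : A →ₐ[R] B)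
  let f : W →ₗ[R] B := π₀.toLinearMap ∘ₗ W.subtype
  haveI : Module.Free R W := Module.free_of_finite_type_torsion_free'
  haveI : Module.Free R (LinearMap.range f) := Module.free_of_finite_type_torsion_free'
  haveI : Module.Finite R (LinearMap.ker f) := Module.Finite.iff_fg.2 (IsNoetherian.noetherian _)
  haveI : Module.IsTorsionFree R (LinearMap.ker f) :=
    Subtype.val_injective.moduleIsTorsionFree ((LinearMap.ker f).subtype) (fun _ _ => rfl)
  haveI : Module.Free R (LinearMap.ker f) := Module.free_of_finite_type_torsion_free' (M := LinearMap.ker f)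
  obtain ⟨s, hs⟩ := Module.projective_lifting_property f.rangeRestrict LinearMap.id f.surjective_rangeRestrict
  let E : W ≃ₗ[R] (LinearMap.ker f × LinearMap.range f) :=
    LinearEquiv.ofLinear
      (LinearMap.prod ((LinearMap.id - s ∘ₗ f.rangeRestrict).codRestrict (LinearMap.ker f) fun w => by
        have h : f (s (f.rangeRestrict w)) = f w := congrArg Subtype.val (LinearMap.congr_fun hs (f.rangeRestrict w))
        rw [LinearMap.mem_ker]
        show f (w - s (f.rangeRestrict w)) = 0
        rw [map_sub, h, sub_self])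
        f.rangeRestrict)
      (LinearMap.coprod (LinearMap.ker f).subtype s)
      (by
        refine LinearMap.ext fun ⟨u, v⟩ => ?_
        have h : f.rangeRestrict ((u : W) + s v) = v := by
          rw [map_add, show f.rangeRestrict (u : W) = 0 from Subtype.ext u.2, zero_add]
          exact LinearMap.congr_fun hs v
        refine Prod.ext ?_ ?_
        · refine Subtype.ext ?_
          show (u : W) + s v - s (f.rangeRestrict ((u : W) + s v)) = u
          rw [h, add_sub_cancel_right]
        · exact h)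
      (LinearMap.ext fun w => by simp)
  set r := Module.finrank R (LinearMap.ker f)
  set e := Module.finrank R (LinearMap.range f)
  let bU := Module.finBasis R (LinearMap.ker f)
  let bQ := Module.finBasis R (LinearMap.range f)
  let b : Module.Basis (Fin r ⊕ Fin e) R W := (bU.prod bQ).map E.symm
  have hbl : ∀ i, f (b (Sum.inl i)) = 0 := fun i => by
    have : b (Sum.inl i) = ((bU i : LinearMap.ker f) : W) := by simp [b, E]
    rw [this]; exact (bU i).2
  have hbr : ∀ i, f (b (Sum.inr i)) = (bQ i : B) := fun i => by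
    have : b (Sum.inr i) = s (bQ i) := by simp [b, E]
    rw [this]
    exact congrArg Subtype.val (LinearMap.congr_fun hs (bQ i))
  choose ρ hρ using fun j => LinearMap.mem_range.1 (hsub (b j : A) (b j).2)
  let t : Matrix (Fin r ⊕ Fin e) (Fin r ⊕ Fin e) A := fun i j => TensorProduct.equivFinsuppOfBasisLeft b (ρ j) i
  have hΔ : ∀ j, CoalgebraStruct.comul (R := R) (b j : A) = ∑ i, (b i : A) ⊗ₜ[R] t i j := by
    intro j
    rw [← hρ]
    conv_lhs => rw [← (TensorProduct.equivFinsuppOfBasisLeft b).symm_apply_apply (ρ j)]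
    rw [TensorProduct.equivFinsuppOfBasisLeft_symm_apply, Finsupp.sum_fintype _ _ (by simp), map_sum]
    rfl
  have hε : ∀ l j, CoalgebraStruct.counit (R := R) (t l j) = if l = j then 1 else 0 := by
    intro l j
    have h := Coalgebra.lTensor_counit_comul (R := R) (b j : A)
    rw [hΔ j, map_sum] at h
    simp only [LinearMap.lTensor_tmul] at h
    have h2 := congrFun (coeff_ext W b (fun i => CoalgebraStruct.counit (R := R) (t i j))
      (fun i => if i = j then (1 : R) else 0) (by rw [h]; simp [tmul_ite])) l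
    exact h2
  have htt : ∀ l j, CoalgebraStruct.comul (R := R) (t l j) = ∑ i, t l i ⊗ₜ[R] t i j := by
    intro l j
    refine congrFun (coeff_ext W b (fun i => CoalgebraStruct.comul (R := R) (t i j))
      (fun i => ∑ m, t i m ⊗ₜ[R] t m j) ?_) l
    have h := Coalgebra.coassoc_apply (R := R) (b j : A)
    rw [hΔ j] at h
    simp only [map_sum, LinearMap.rTensor_tmul, LinearMap.lTensor_tmul, hΔ, sum_tmul,
      TensorProduct.assoc_tmul] at h
    rw [← h, Finset.sum_comm]
    simp only [tmul_sum]
  have hmc : IsMC R t := ⟨htt, hε⟩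
  have hker : ∀ i j, t (Sum.inr i) (Sum.inl j) ∈ RingHom.ker π := by
    intro i j
    have h0 : TensorProduct.map π₀.toLinearMap π₀.toLinearMap (CoalgebraStruct.comul (R := R) (b (Sum.inl j) : A)) = 0 := by
      have h := CoalgHomClass.map_comp_comul_apply π (b (Sum.inl j) : A)
      rw [show π (b (Sum.inl j) : A) = f (b (Sum.inl j)) from rfl, hbl, map_zero] at h
      exact h
    rw [hΔ, map_sum, Fintype.sum_sum_type] at h0
    simp only [TensorProduct.map_tmul] at h0
    rw [show (∑ i, π₀.toLinearMap (b (Sum.inl i) : A) ⊗ₜ[R] π₀.toLinearMap (t (Sum.inl i) (Sum.inl j))) = 0 from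
      Finset.sum_eq_zero fun i _ => by
        rw [show π₀.toLinearMap (b (Sum.inl i) : A) = f (b (Sum.inl i)) from rfl, hbl, zero_tmul], zero_add] at h0
    have h1 := congrFun (coeff_ext (LinearMap.range f) bQ (fun i => π₀.toLinearMap (t (Sum.inr i) (Sum.inl j)))
      (fun _ => 0) (by
        simp only [tmul_zero, Finset.sum_const_zero]
        rw [← h0]
        exact Finset.sum_congr rfl fun i _ => by rw [← hbr]; rfl)) i
    exact RingHom.mem_ker.2 h1
  have hspan : ∀ j, (b j : A) ∈ Submodule.span R (Set.range fun i => t i j) := by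
    intro j
    have h := congrArg (TensorProduct.lid R A) (Coalgebra.rTensor_counit_comul (R := R) (b j : A))
    rw [hΔ] at h
    simp only [map_sum, LinearMap.rTensor_tmul, TensorProduct.lid_tmul, one_smul] at h
    rw [← h]
    exact Submodule.sum_mem _ fun i _ => Submodule.smul_mem _ _ (Submodule.subset_span ⟨i, rfl⟩)
  refine ⟨r, e, t, hmc, le_antisymm ?_ ?_, ?_⟩
  · rw [← hG, Ideal.span_le]
    intro x hx
    have hxW : x ∈ W := hFW (Submodule.subset_span (by simp [Finset.mem_coe.1 hx]))
    have hxπ : π x = 0 := RingHom.mem_ker.1 (hG ▸ Ideal.subset_span hx)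
    have hxf : (⟨x, hxW⟩ : W) ∈ LinearMap.ker f := hxπ
    have hx' : x = ∑ i, bU.repr ⟨⟨x, hxW⟩, hxf⟩ i • (b (Sum.inl i) : A) := by
      have h := congrArg (fun z : LinearMap.ker f => ((z : W) : A)) (bU.sum_repr ⟨⟨x, hxW⟩, hxf⟩)
      simp only [Submodule.coe_sum, Submodule.coe_smul] at h
      refine h.symm.trans (Finset.sum_congr rfl fun i _ => ?_)
      simp [b, E]
    rw [SetLike.mem_coe, hx']
    refine Submodule.sum_mem _ fun i _ => ?_
    rw [Algebra.smul_def]
    refine Ideal.mul_mem_left _ _ ?_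
    have h := congrArg (TensorProduct.lid R A) (Coalgebra.rTensor_counit_comul (R := R) (b (Sum.inl i) : A))
    rw [hΔ] at h
    simp only [map_sum, LinearMap.rTensor_tmul, TensorProduct.lid_tmul, one_smul] at h
    rw [← h, Fintype.sum_sum_type]
    refine add_mem (Submodule.sum_mem _ fun l _ => ?_) (Submodule.sum_mem _ fun l _ => ?_)
    · rw [show CoalgebraStruct.counit (R := R) (b (Sum.inl l) : A) = 0 from by
        rw [← CoalgHomClass.counit_comp_apply π (b (Sum.inl l) : A),
          show π (b (Sum.inl l) : A) = f (b (Sum.inl l)) from rfl, hbl, map_zero], zero_smul]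
      exact zero_mem _
    · rw [Algebra.smul_def]
      exact Ideal.mul_mem_left _ _ (Ideal.subset_span ⟨(l, i), rfl⟩)
  · rw [Ideal.span_le]
    rintro _ ⟨p, rfl⟩
    exact hker p.1 p.2
  · rw [eq_top_iff, ← hT, Algebra.adjoin_le_iff]
    intro x hx
    have hxW : x ∈ W := hFW (Submodule.subset_span (by simp [Finset.mem_coe.1 hx]))
    have hx' : x = ∑ i, b.repr ⟨x, hxW⟩ i • (b i : A) := by
      have h := congrArg (fun z : W => (z : A)) (b.sum_repr ⟨x, hxW⟩)
      simp only [Submodule.coe_sum, Submodule.coe_smul] at h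
      exact h.symm
    rw [SetLike.mem_coe, hx']
    refine sum_mem fun i _ => Subalgebra.smul_mem _ ?_ _
    exact (Submodule.span_le (p := (Algebra.adjoin R _).toSubmodule)).2
      (by rintro _ ⟨l, rfl⟩; exact Algebra.subset_adjoin ⟨(l, i), rfl⟩) (hspan i)

/-- Entries of the column of minors generate the block ideal. -/
theorem span_minors_eq {N r : ℕ} (hr : r ≤ N) (a a' : Matrix (Fin N) (Fin N) A) (ha : a' * a = 1)
    (T₀ : Set.powersetCard (Fin N) r) (hT₀ : ∀ i : Fin N, i ∈ T₀ ↔ (i : ℕ) < r) :
    Ideal.span (Set.range fun S : {S : Set.powersetCard (Fin N) r // S ≠ T₀} => CharRingLib.compound r a S.1 T₀) =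
      Ideal.span {x | ∃ i j : Fin N, r ≤ (i : ℕ) ∧ (j : ℕ) < r ∧ a i j = x} := by
  classical
  set Jd := Ideal.span (Set.range fun S : {S : Set.powersetCard (Fin N) r // S ≠ T₀} => CharRingLib.compound r a S.1 T₀)
  set J₀ := Ideal.span {x | ∃ i j : Fin N, r ≤ (i : ℕ) ∧ (j : ℕ) < r ∧ a i j = x}
  let sT := Set.powersetCard.ofFinEmbEquiv.symm T₀
  have hsT : ∀ l, ((sT l : Fin N) : ℕ) < r := fun l => (hT₀ _).1
    ((Set.powersetCard.mem_range_ofFinEmbEquiv_symm_iff_mem T₀ _).1 ⟨l, rfl⟩)
  have hsurj : ∀ j : Fin N, (j : ℕ) < r → ∃ l, sT l = j := fun j hj =>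
    (Set.powersetCard.mem_range_ofFinEmbEquiv_symm_iff_mem T₀ j).2 ((hT₀ j).2 hj)
  refine le_antisymm (Ideal.span_le.2 ?_) (Ideal.span_le.2 ?_)
  · rintro _ ⟨⟨S, hS⟩, rfl⟩
    obtain ⟨l, hl⟩ : ∃ l, r ≤ ((Set.powersetCard.ofFinEmbEquiv.symm S l : Fin N) : ℕ) := by
      by_contra h
      push Not at h
      refine hS (Subtype.ext (Finset.eq_of_subset_of_card_le (fun i hi => ?_) (by rw [T₀.2, S.2])))
      obtain ⟨l, rfl⟩ := (Set.powersetCard.mem_range_ofFinEmbEquiv_symm_iff_mem S i).2 hi
      exact (hT₀ _).2 (h l)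
    rw [SetLike.mem_coe, ← Ideal.Quotient.eq_zero_iff_mem]
    show Ideal.Quotient.mk J₀ (Matrix.det _) = 0
    rw [RingHom.map_det]
    refine Matrix.det_eq_zero_of_row_eq_zero l fun m => ?_
    rw [RingHom.mapMatrix_apply, Matrix.map_apply, Ideal.Quotient.eq_zero_iff_mem]
    exact Ideal.subset_span ⟨_, _, hl, hsT m, rfl⟩
  · rintro _ ⟨i, j, hi, hj, rfl⟩
    set D := CharRingLib.compound r a T₀ T₀ with hD
    have hunit : IsUnit (Ideal.Quotient.mk Jd D) := by
      have h1 : CharRingLib.compound r a' * CharRingLib.compound r a = 1 := by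
        rw [← CharRingLib.compound_mul, ha, CharRingLib.compound_one]
      have h2 := congrArg (Ideal.Quotient.mk Jd) (congrFun (congrFun h1 T₀) T₀)
      rw [Matrix.mul_apply, Matrix.one_apply_eq, map_one, map_sum, Finset.sum_eq_single T₀ (fun S _ hS => by
        rw [map_mul, Ideal.Quotient.eq_zero_iff_mem.2 (Ideal.subset_span ⟨⟨S, hS⟩, rfl⟩ :
          CharRingLib.compound r a S T₀ ∈ Jd), mul_zero]) (by simp), map_mul] at h2
      exact IsUnit.of_mul_eq_one_right _ h2
    let P : Matrix (Fin r) (Fin r) A := a.submatrix sT sT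
    let v : Fin r → A := fun m => a i (sT m)
    have hrow : ∀ l, (P.updateRow l v).det ∈ Jd := by
      intro l
      let f : Fin r → Fin N := Function.update sT l i
      have hf : Function.Injective f := by
        intro x y hxy
        simp only [f, Function.update_apply] at hxy
        split_ifs at hxy with h1 h2 h2
        · rw [h1, h2]
        · exact absurd (hxy ▸ hi) (Nat.not_le.2 (hsT y))
        · exact absurd (hxy ▸ hi) (Nat.not_le.2 (hsT x))
        · exact sT.injective hxy
      let S : Set.powersetCard (Fin N) r := ⟨Finset.univ.image f, by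
        simp [Finset.card_image_of_injective _ hf]⟩
      have hS : S ≠ T₀ := fun h => by
        have hi' : i ∈ S := Finset.mem_image.2 ⟨l, Finset.mem_univ _, by simp [f]⟩
        rw [h] at hi'
        exact absurd ((hT₀ i).1 hi') (Nat.not_lt.2 hi)
      choose σ hσ using fun x => (Set.powersetCard.mem_range_ofFinEmbEquiv_symm_iff_mem S (f x)).2
        (Finset.mem_image.2 ⟨x, Finset.mem_univ _, rfl⟩)
      have hσi : Function.Injective σ := fun x y h => hf (by rw [← hσ x, ← hσ y, h])
      have hσb : Function.Bijective σ := Finite.injective_iff_bijective.1 hσi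
      have e : P.updateRow l v =
          (a.submatrix (Set.powersetCard.ofFinEmbEquiv.symm S) sT).submatrix (Equiv.ofBijective σ hσb) id := by
        ext x m
        simp only [Matrix.submatrix_apply, Equiv.ofBijective_apply, hσ, id_eq, Matrix.updateRow_apply, f,
          Function.update_apply, P, v]
        split_ifs <;> rfl
      rw [e, Matrix.det_permute]
      exact Ideal.mul_mem_left _ _ (Ideal.subset_span ⟨⟨S, hS⟩, rfl⟩)
    have hadj : ∀ m, Matrix.vecMul v P.adjugate m ∈ Jd := fun m => by
      have := hrow m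
      rwa [← Matrix.cramer_transpose_apply, Matrix.cramer_eq_adjugate_mulVec, ← Matrix.adjugate_transpose,
        Matrix.mulVec_transpose] at this
    obtain ⟨m, rfl⟩ := hsurj j hj
    have h3 : P.det * v m ∈ Jd := by
      have h4 : Matrix.vecMul (Matrix.vecMul v P.adjugate) P m = P.det * v m := by
        rw [Matrix.vecMul_vecMul, Matrix.adjugate_mul, Matrix.vecMul_smul, Matrix.vecMul_one]
        rfl
      rw [← h4]
      show (∑ l, Matrix.vecMul v P.adjugate l * P l m) ∈ Jd
      exact Ideal.sum_mem _ fun l _ => Ideal.mul_mem_right _ _ (hadj l)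
    rw [SetLike.mem_coe, ← Ideal.Quotient.eq_zero_iff_mem]
    rw [← Ideal.Quotient.eq_zero_iff_mem, map_mul] at h3
    exact hunit.mul_right_eq_zero.1 h3

/-- Chevalley's theorem: a closed subgroup is cut out by a column of a faithful representation. -/
theorem result [Module.Flat R A] [Algebra.FiniteType R A] {B : Type u} [CommRing B] [HopfAlgebra R B]
    [Module.Flat R B] (π : A →ₐc[R] B) :
    ∃ (d : ℕ) (hd : 0 < d) (a : Matrix (Fin d) (Fin d) A),
      IsMC R a ∧
      (∃ u : A, u * a.det = 1 ∧
        Algebra.adjoin R (Set.range (fun p : Fin d × Fin d => a p.1 p.2) ∪ {u}) = ⊤) ∧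
      RingHom.ker π = Ideal.span (Set.range (fun i : {i : Fin d // i ≠ ⟨0, hd⟩} => a i.1 ⟨0, hd⟩)) := by
  classical
  obtain ⟨r, e, t, hmc, hker, hgen⟩ := exists_block (R := R) (A := A) π
  let a₁ : Matrix (Fin (r + e)) (Fin (r + e)) A := Matrix.reindex finSumFinEquiv finSumFinEquiv t
  have h₁ : IsMC R a₁ := hmc.reindex finSumFinEquiv
  let C := CharRingLib.compound r a₁
  let T₀ : Set.powersetCard (Fin (r + e)) r := ⟨Finset.univ.image (Fin.castAdd e), by
    simp [Finset.card_image_of_injective _ (Fin.castAdd_injective r e)]⟩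
  have hT₀ : ∀ i : Fin (r + e), i ∈ T₀ ↔ (i : ℕ) < r := fun i => by
    refine ⟨fun h => ?_, fun h => Finset.mem_image.2 ⟨⟨i, h⟩, Finset.mem_univ _, rfl⟩⟩
    obtain ⟨x, -, rfl⟩ := Finset.mem_image.1 h
    exact x.2
  let α := Set.powersetCard (Fin (r + e)) r ⊕ Fin (r + e)
  let d := Fintype.card α
  have hd : 0 < d := Fintype.card_pos_iff.2 ⟨Sum.inl T₀⟩
  haveI : Nonempty (Fin d) := ⟨⟨0, hd⟩⟩
  let E₀ := Fintype.equivFin α
  let E : α ≃ Fin d := E₀.trans (Equiv.swap (E₀ (Sum.inl T₀)) ⟨0, hd⟩)
  have hE : E (Sum.inl T₀) = ⟨0, hd⟩ := Equiv.swap_apply_left _ _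
  let a : Matrix (Fin d) (Fin d) A := Matrix.reindex E E (Matrix.fromBlocks C 0 0 a₁)
  have hamc : IsMC R a := ((h₁.compound r).blocks h₁).reindex E
  have hu : IsUnit a.det := by
    have := congrArg Matrix.det hamc.antipode_mul
    rw [Matrix.det_mul, Matrix.det_one] at this
    exact IsUnit.of_mul_eq_one_right _ this
  refine ⟨d, hd, a, hamc, ⟨(↑hu.unit⁻¹ : A), by simp, ?_⟩, ?_⟩
  · rw [eq_top_iff, ← hgen]
    refine Algebra.adjoin_mono ?_
    rintro _ ⟨⟨i, j⟩, rfl⟩
    refine Or.inl ⟨(E (Sum.inr (finSumFinEquiv i)), E (Sum.inr (finSumFinEquiv j))), ?_⟩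
    simp [a, a₁]
  · rw [hker]
    have h := span_minors_eq (Nat.le_add_right r e) a₁ _ h₁.antipode_mul T₀ hT₀
    have hblock : Set.range (fun p : Fin e × Fin r => t (Sum.inr p.1) (Sum.inl p.2)) =
        {x | ∃ i j : Fin (r + e), r ≤ (i : ℕ) ∧ (j : ℕ) < r ∧ a₁ i j = x} := by
      ext x
      constructor
      · rintro ⟨⟨i, j⟩, rfl⟩
        exact ⟨finSumFinEquiv (Sum.inr i), finSumFinEquiv (Sum.inl j), by simp, by simp, by simp [a₁]⟩
      · rintro ⟨i, j, hi, hj, rfl⟩
        obtain ⟨i | i, rfl⟩ := finSumFinEquiv.surjective i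
        · simp at hi; omega
        obtain ⟨j | j, rfl⟩ := finSumFinEquiv.surjective j
        · exact ⟨(i, j), by simp [a₁]⟩
        · simp at hj
    rw [hblock, ← h]
    refine le_antisymm (Ideal.span_le.2 ?_) (Ideal.span_le.2 ?_)
    · rintro _ ⟨⟨S, hS⟩, rfl⟩
      refine Ideal.subset_span ⟨⟨E (Sum.inl S), fun h => hS ?_⟩, ?_⟩
      · exact Sum.inl_injective (E.injective (h.trans hE.symm))
      · simp [a, ← hE, C]
    · rintro _ ⟨⟨i, hi⟩, rfl⟩
      obtain ⟨x, rfl⟩ := E.surjective i
      show a _ ⟨0, hd⟩ ∈ _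
      rcases x with S | l
      · rw [show a (E (Sum.inl S)) ⟨0, hd⟩ = C S T₀ from by simp [a, ← hE]]
        exact Ideal.subset_span ⟨⟨S, fun h => hi (h ▸ hE)⟩, rfl⟩
      · rw [show a (E (Sum.inr l)) ⟨0, hd⟩ = 0 from by simp [a, ← hE]]
        exact zero_mem _

end ChevColLib
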